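import Mathlib.AlgebraicGeometry.ProjectiveSpectrum.Basic
import Mathlib.AlgebraicGeometry.GammaSpecAdjunction

/-!
# Morphisms into a standard chart of `Proj`
-/

universe u

open AlgebraicGeometry CategoryTheory HomogeneousLocalization Opposite

namespace GrothLib.ProjPt

section algebra

variable {σ : Type*} {A : Type u} [CommRing A] [SetLike σ A] [AddSubgroupClass σ A]
  (𝒜 : ℕ → σ) [GradedRing 𝒜] {S : Type u} [CommRing S]

/-- Evaluation of degree-zero fractions along a ring homomorphism inverting the denominator. -/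
noncomputable def evalAway (f : A →+* S) (x : A) (hx : IsUnit (f x)) : Away 𝒜 x →+* S :=
  (IsLocalization.Away.lift x hx).comp (algebraMap (Away 𝒜 x) (Localization.Away x))

theorem evalAway_mk_spec (f : A →+* S) {d : ℕ} {x : A} (hxd : x ∈ 𝒜 d) (hx : IsUnit (f x))
    (n : ℕ) (a : A) (ha : a ∈ 𝒜 (n • d)) :
    evalAway 𝒜 f x hx (Away.mk 𝒜 hxd n a ha) * f x ^ n = f a := by
  have h : (Away.mk 𝒜 hxd n a ha).val * algebraMap A (Localization.Away x) (x ^ n) =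
      algebraMap A (Localization.Away x) a := by
    rw [Away.val_mk, Localization.mk_eq_mk', IsLocalization.mk'_spec]
  have h2 := congrArg (IsLocalization.Away.lift (g := f) x hx) h
  rw [map_mul, IsLocalization.Away.lift_eq, IsLocalization.Away.lift_eq, map_pow] at h2
  exact h2

/-- Two evaluations agree if the homomorphisms differ by a scalar of the appropriate degree. -/
theorem evalAway_eq_of_twist (f g : A →+* S) {d : ℕ} {x : A} (hxd : x ∈ 𝒜 d)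
    (hf : IsUnit (f x)) (hg : IsUnit (g x)) (c : S)
    (h : ∀ n, ∀ a ∈ 𝒜 n, g a = c ^ n * f a) : evalAway 𝒜 g x hg = evalAway 𝒜 f x hf := by
  refine RingHom.ext fun z => ?_
  obtain ⟨n, a, ha, rfl⟩ := Away.mk_surjective 𝒜 hxd z
  refine (hg.pow n).mul_left_injective ?_
  dsimp only
  rw [evalAway_mk_spec 𝒜 g hxd hg n a ha, h _ a ha, ← evalAway_mk_spec 𝒜 f hxd hf n a ha, h _ x hxd,
    mul_pow, ← pow_mul, smul_eq_mul, mul_comm d n]
  ring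

theorem evalAway_comp_awayMap (f : A →+* S) {e : ℕ} {x y z : A} (hy : y ∈ 𝒜 e) (hz : z = x * y)
    {d : ℕ} (hxd : x ∈ 𝒜 d) (hfz : IsUnit (f z)) (hfx : IsUnit (f x)) :
    (evalAway 𝒜 f z hfz).comp (awayMap 𝒜 hy hz) = evalAway 𝒜 f x hfx := by
  refine RingHom.ext fun w => ?_
  obtain ⟨n, a, ha, rfl⟩ := Away.mk_surjective 𝒜 hxd w
  refine (hfz.pow n).mul_left_injective ?_
  dsimp only
  rw [RingHom.comp_apply, awayMap_mk, evalAway_mk_spec, map_mul, map_pow,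
    ← evalAway_mk_spec 𝒜 f hxd hfx n a ha, hz, map_mul, mul_pow]
  ring

theorem comp_evalAway {S' : Type u} [CommRing S'] (h : S →+* S') (f : A →+* S) {d : ℕ}
    {x : A} (hxd : x ∈ 𝒜 d) (hx : IsUnit (f x)) :
    h.comp (evalAway 𝒜 f x hx) = evalAway 𝒜 (h.comp f) x (hx.map h) := by
  refine RingHom.ext fun z => ?_
  obtain ⟨k, a, ha, rfl⟩ := Away.mk_surjective 𝒜 hxd z
  refine ((hx.map h).pow k).mul_left_injective ?_
  dsimp only
  rw [RingHom.comp_apply, show h (f x) = (h.comp f) x from rfl,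
    evalAway_mk_spec 𝒜 (h.comp f) hxd (hx.map h) k a ha, RingHom.comp_apply, RingHom.comp_apply,
    ← map_pow, ← map_mul, evalAway_mk_spec 𝒜 f hxd hx k a ha]

end algebra

section scheme

variable {σ : Type*} {A : Type u} [CommRing A] [SetLike σ A] [AddSubgroupClass σ A]
  (𝒜 : ℕ → σ) [GradedRing 𝒜] {T : Scheme.{u}} {d : ℕ} {x : A} (hxd : x ∈ 𝒜 d) (hd : 0 < d)

/-- The morphism `T ⟶ Proj 𝒜` into the chart `D₊(x)` given by a ring homomorphism. -/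
noncomputable def pt (g : Away 𝒜 x →+* Γ(T, ⊤)) : T ⟶ Proj 𝒜 :=
  T.toSpecΓ ≫ Spec.map (CommRingCat.ofHom g) ≫ Proj.awayι 𝒜 x hxd hd

theorem toSpecΓ_comp_SpecMap_injective {R : CommRingCat.{u}} {g g' : R ⟶ Γ(T, ⊤)}
    (h : T.toSpecΓ ≫ Spec.map g = T.toSpecΓ ≫ Spec.map g') : g = g' := by
  have h1 := congrArg (fun k : T ⟶ Spec R => (Scheme.ΓSpecIso R).inv ≫ k.appTop) h
  simpa using h1

theorem pt_injective {g g' : Away 𝒜 x →+* Γ(T, ⊤)} (h : pt 𝒜 hxd hd g = pt 𝒜 hxd hd g') :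
    g = g' := by
  simp only [pt, ← Category.assoc, cancel_mono] at h
  exact congrArg CommRingCat.Hom.hom (toSpecΓ_comp_SpecMap_injective h)

theorem pt_preimage_self (g : Away 𝒜 x →+* Γ(T, ⊤)) :
    pt 𝒜 hxd hd g ⁻¹ᵁ Proj.basicOpen 𝒜 x = ⊤ := by
  rw [pt, Scheme.Hom.comp_preimage, Scheme.Hom.comp_preimage, ← Proj.opensRange_awayι 𝒜 x hxd hd,
    Scheme.Hom.preimage_opensRange]
  rfl

theorem exists_eq_pt (u : T ⟶ Proj 𝒜) (hu : u ⁻¹ᵁ Proj.basicOpen 𝒜 x = ⊤) :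
    ∃ g : Away 𝒜 x →+* Γ(T, ⊤), u = pt 𝒜 hxd hd g := by
  have hr : Set.range u.base ⊆ Set.range (Proj.awayι 𝒜 x hxd hd).base := by
    rintro _ ⟨t, rfl⟩
    have ht : t ∈ u ⁻¹ᵁ Proj.basicOpen 𝒜 x := by rw [hu]; trivial
    rw [← Proj.opensRange_awayι 𝒜 x hxd hd] at ht
    exact ht
  let v := IsOpenImmersion.lift (Proj.awayι 𝒜 x hxd hd) u hr
  refine ⟨((Scheme.ΓSpecIso (.of (Away 𝒜 x))).inv ≫ v.appTop).hom, ?_⟩
  have hv : v = T.toSpecΓ ≫ Spec.map ((Scheme.ΓSpecIso (.of (Away 𝒜 x))).inv ≫ v.appTop) :=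
    ext_to_Spec (by simp)
  rw [← IsOpenImmersion.lift_fac (Proj.awayι 𝒜 x hxd hd) u hr]
  exact (congrArg (· ≫ Proj.awayι 𝒜 x hxd hd) hv).trans (Category.assoc _ _ _)

theorem comp_pt {T' : Scheme.{u}} (h : T' ⟶ T) (g : Away 𝒜 x →+* Γ(T, ⊤)) :
    h ≫ pt 𝒜 hxd hd g = pt 𝒜 hxd hd (h.appTop.hom.comp g) := by
  rw [pt, pt, CommRingCat.ofHom_comp, Spec.map_comp, Category.assoc, CommRingCat.ofHom_hom,
    Scheme.toSpecΓ_naturality_assoc]

theorem pt_comp_awayMap {e : ℕ} {y z : A} (hy : y ∈ 𝒜 e) (hz : z = x * y) (hzd : z ∈ 𝒜 (d + e))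
    (g : Away 𝒜 z →+* Γ(T, ⊤)) :
    pt 𝒜 hxd hd (g.comp (awayMap 𝒜 hy hz)) = pt 𝒜 hzd (Nat.add_pos_left hd e) g := by
  rw [pt, pt, CommRingCat.ofHom_comp, Spec.map_comp, Category.assoc,
    Proj.SpecMap_awayMap_awayι]

theorem pt_preimage_basicOpen (g : Away 𝒜 x →+* Γ(T, ⊤)) {e : ℕ} {y : A} (hy : y ∈ 𝒜 e)
    (he : 0 < e) :
    pt 𝒜 hxd hd g ⁻¹ᵁ Proj.basicOpen 𝒜 y = T.basicOpen (g (Away.isLocalizationElem hxd hy)) := by
  rw [pt, Scheme.Hom.comp_preimage, Scheme.Hom.comp_preimage,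
    Proj.awayι_preimage_basicOpen 𝒜 hxd hd hy he, ← Scheme.toSpecΓ_preimage_basicOpen]
  rfl

theorem pt_evalAway_preimage_basicOpen (f : A →+* Γ(T, ⊤)) (hfx : IsUnit (f x)) {e : ℕ} {y : A}
    (hy : y ∈ 𝒜 e) (he : 0 < e) :
    pt 𝒜 hxd hd (evalAway 𝒜 f x hfx) ⁻¹ᵁ Proj.basicOpen 𝒜 y = T.basicOpen (f y) := by
  rw [pt_preimage_basicOpen 𝒜 hxd hd _ hy he]
  have h : evalAway 𝒜 f x hfx (Away.isLocalizationElem hxd hy) * f x ^ e = f y ^ d := by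
    rw [evalAway_mk_spec, map_pow]
  have h1 := congrArg T.basicOpen h
  rw [Scheme.basicOpen_mul, Scheme.basicOpen_of_isUnit T (hfx.pow e)] at h1
  rw [Scheme.basicOpen_pow T (f y) hd] at h1
  rw [← h1]
  exact (inf_of_le_left le_top).symm

theorem pt_evalAway_eq (f : A →+* Γ(T, ⊤)) (hfx : IsUnit (f x)) {e : ℕ} {y : A} (hy : y ∈ 𝒜 e)
    (he : 0 < e) (hfy : IsUnit (f y)) :
    pt 𝒜 hxd hd (evalAway 𝒜 f x hfx) = pt 𝒜 hy he (evalAway 𝒜 f y hfy) := by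
  have hu : IsUnit (f (x * y)) := by rw [map_mul]; exact hfx.mul hfy
  rw [← evalAway_comp_awayMap 𝒜 f hy rfl hxd hu hfx,
    pt_comp_awayMap 𝒜 hxd hd hy rfl (SetLike.mul_mem_graded hxd hy),
    ← evalAway_comp_awayMap 𝒜 f hxd (mul_comm x y) hy hu hfy,
    pt_comp_awayMap 𝒜 hy he hxd (mul_comm x y) (mul_comm y x ▸ SetLike.mul_mem_graded hy hxd)]
  rfl

/-- Morphisms given in two charts, compared on the common chart. -/
theorem exists_common_chart (u : T ⟶ Proj 𝒜) {e : ℕ} {y : A} (hy : y ∈ 𝒜 e) (he : 0 < e)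
    (g : Away 𝒜 x →+* Γ(T, ⊤)) (g' : Away 𝒜 y →+* Γ(T, ⊤))
    (hg : u = pt 𝒜 hxd hd g) (hg' : u = pt 𝒜 hy he g') :
    ∃ h : Away 𝒜 (x * y) →+* Γ(T, ⊤), g = h.comp (awayMap 𝒜 hy rfl) ∧
      g' = h.comp (awayMap 𝒜 hxd (mul_comm x y)) := by
  have hu : u ⁻¹ᵁ Proj.basicOpen 𝒜 (x * y) = ⊤ := by
    rw [Proj.basicOpen_mul, Scheme.Hom.preimage_inf]
    conv_lhs => arg 1; rw [hg, pt_preimage_self]
    conv_lhs => arg 2; rw [hg', pt_preimage_self]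
    exact inf_of_le_left le_rfl
  obtain ⟨h, hh⟩ := exists_eq_pt 𝒜 (SetLike.mul_mem_graded hxd hy) (Nat.add_pos_left hd e) u hu
  refine ⟨h, pt_injective 𝒜 hxd hd ?_, pt_injective 𝒜 hy he ?_⟩
  · rw [pt_comp_awayMap 𝒜 hxd hd hy rfl (SetLike.mul_mem_graded hxd hy), ← hh, ← hg]
  · rw [pt_comp_awayMap 𝒜 hy he hxd (mul_comm x y)
      (mul_comm y x ▸ SetLike.mul_mem_graded hy hxd), ← hg', hh]
    rfl

end scheme

end GrothLib.ProjPt
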